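import Cfsg.Agent.Base

/-!
# A kernel checker for Todd–Coxeter certificates

A certificate lists the names (cosets) defined in an enumeration, the first table entry found for
every (name, column), and the coincidences, each with a rank (later events have smaller rank) and
a hint saying how it follows from events of bigger rank.
-/

set_option autoImplicit false

namespace CL.TC

/-- A table of fixed-width numbers cut into chunks. -/
inductive Tr where
  | leaf (b n : Nat) : Tr
  | node (m : Nat) (l r : Tr) : Tr

/-- Forces the evaluation of `x` in the kernel. -/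
noncomputable def force {β : Type} (x : Nat) (f : Nat → β) : β :=
  @Nat.rec (fun _ => β) (f 0) (fun n _ => f (Nat.succ n)) x

theorem force_eq {β : Type} (x : Nat) (f : Nat → β) : force x f = f x := by
  cases x <;> rfl

/-- Entry `i` of a table of numbers with `w` bits; `mask = 2 ^ w - 1`. -/
noncomputable def Tr.get (t : Tr) (w mask i : Nat) : Nat :=
  force i fun i =>
    @Tr.rec (fun _ => Nat)
      (fun b n => Nat.land (Nat.shiftRight n (Nat.mul w (Nat.sub i b))) mask)
      (fun m _ _ fl fr => @Bool.rec (fun _ => Nat) fl fr (Nat.ble m i)) t

/-- `∀ i ∈ [a, a + n), f i`, by bisection (`k` is fuel). -/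
noncomputable def allAux (f : Nat → Bool) (k : Nat) : Nat → Nat → Bool :=
  @Nat.rec (fun _ => Nat → Nat → Bool) (fun _ _ => false)
    (fun _ ih a n => force a fun a => force n fun n =>
      @Bool.rec (fun _ => Bool)
        (force (Nat.shiftRight n 1) fun m =>
          @Bool.rec (fun _ => Bool) false (ih (Nat.add a m) (Nat.sub n m)) (ih a m))
        (@Bool.rec (fun _ => Bool) (f a) true (Nat.beq n 0)) (Nat.ble n 1)) k

/-- `∀ i ∈ [a, a + n), f i`. -/
noncomputable def allFrom (f : Nat → Bool) (a n : Nat) : Bool := allAux f 40 a n

theorem allAux_succ (f : Nat → Bool) (k a n : Nat) : allAux f (k + 1) a n =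
    force a fun a => force n fun n =>
      @Bool.rec (fun _ => Bool)
        (force (Nat.shiftRight n 1) fun m =>
          @Bool.rec (fun _ => Bool) false (allAux f k (Nat.add a m) (Nat.sub n m)) (allAux f k a m))
        (@Bool.rec (fun _ => Bool) (f a) true (Nat.beq n 0)) (Nat.ble n 1) := rfl

theorem allAux_spec {f : Nat → Bool} (k : Nat) : ∀ {a n : Nat}, allAux f k a n = true →
    ∀ i, a ≤ i → i < a + n → f i = true := by
  induction k with
  | zero => intro a n h; exact absurd h (by simp [allAux])
  | succ k ih =>
    intro a n h i h1 h2
    have h' : @Bool.rec (fun _ => Bool)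
        (@Bool.rec (fun _ => Bool) false (allAux f k (a + n >>> 1) (n - n >>> 1))
          (allAux f k a (n >>> 1)))
        (@Bool.rec (fun _ => Bool) (f a) true (Nat.beq n 0)) (Nat.ble n 1) = true := by
      rw [allAux_succ, force_eq, force_eq, force_eq] at h
      exact h
    cases hn : Nat.ble n 1 with
    | true =>
      rw [hn] at h'
      have h3 : n ≤ 1 := Nat.le_of_ble_eq_true hn
      have h4 : n = 1 := by omega
      have h5 : i = a := by omega
      subst h4 h5
      exact h'
    | false =>
      rw [hn] at h'
      cases hf : allAux f k a (n >>> 1) with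
      | false => rw [hf] at h'; exact absurd h' (by simp)
      | true =>
        rw [hf] at h'
        have hm : n >>> 1 ≤ n := Nat.shiftRight_le n 1
        rcases Nat.lt_or_ge i (a + n >>> 1) with h3 | h3
        · exact ih hf i h1 h3
        · exact ih h' i h3 (by omega)

theorem allFrom_spec {f : Nat → Bool} {a n : Nat} (h : allFrom f a n = true) :
    ∀ i, a ≤ i → i < a + n → f i = true := allAux_spec 40 h

/-- The data of a certificate. -/
structure Cert where
  /-- number of columns (at most 16) -/
  nc : Nat
  /-- number of names -/
  M : Nat
  /-- base separating the target from the rank -/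
  B : Nat
  /-- number of relators (with inverses) -/
  nrel : Nat
  /-- number of subgroup words (with inverses) -/
  nsub : Nat
  /-- inverse column -/
  inv : Nat → Nat
  /-- entries: `E (c * nc + j) = d + B * rank` -/
  E : Nat → Nat
  /-- coincidences: `R d = c + B * rank` -/
  R : Nat → Nat
  /-- definitions: `P d = c * nc + j` -/
  P : Nat → Nat
  /-- hints for the entries -/
  JE : Nat → Nat
  /-- hints for the coincidences -/
  JR : Nat → Nat
  /-- relators, `len + 256 * (packed doubled word)` -/
  rel : Nat → Nat
  /-- subgroup words, `len + 256 * (packed word)` -/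
  sub : Nat → Nat

namespace Cert

variable (C : Cert)

/-- Follow the coincidences of rank `> s`. -/
noncomputable def rep (s e : Nat) : Nat :=
  @Nat.rec (fun _ => Nat → Nat) (fun e => e)
    (fun _ ih e => force (C.R e) fun r =>
      @Bool.rec (fun _ => Nat) (ih (Nat.mod r C.B)) e (Nat.ble (Nat.div r C.B) s)) 64 e

/-- One step along column `j`, using events of rank `> s`; `M` on failure. -/
noncomputable def step (s j e : Nat) : Nat :=
  @Nat.rec (fun _ => Nat → Nat) (fun _ => C.M)
    (fun _ ih e => force (C.E (Nat.add (Nat.mul e C.nc) j)) fun v =>
      @Bool.rec (fun _ => Nat) (Nat.mod v C.B)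
        (force (C.R e) fun r =>
          @Bool.rec (fun _ => Nat) (ih (Nat.mod r C.B)) C.M (Nat.ble (Nat.div r C.B) s))
        (Nat.ble (Nat.div v C.B) s)) 64 e

/-- Trace `n` letters of the packed word `w` from `e`. -/
noncomputable def trace (s n w e : Nat) : Nat :=
  @Nat.rec (fun _ => Nat → Nat → Nat) (fun _ e => e)
    (fun _ ih w e => force (C.step s (Nat.land w 15) e) fun e' =>
      force (Nat.shiftRight w 4) fun w' => ih w' e') n w e

/-- Same representative. -/
noncomputable def same (s a b : Nat) : Bool := Nat.beq (C.rep s a) (C.rep s b)

/-- Check of the entry with address `a`. -/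
noncomputable def checkE (a : Nat) : Bool :=
  force a fun a => force (C.E a) fun v => force (Nat.div v C.B) fun s =>
  @Bool.rec (fun _ => Bool)
    (force (Nat.mod v C.B) fun d => force (Nat.div a C.nc) fun c => force (Nat.mod a C.nc) fun j =>
      force (C.JE a) fun J => force (Nat.shiftRight J 3) fun h => force (Nat.land J 7) fun ty =>
      and (Nat.blt d C.M) <|
      @Bool.rec (fun _ => Bool)
        (@Bool.rec (fun _ => Bool)
          (@Bool.rec (fun _ => Bool)
            (@Bool.rec (fun _ => Bool)
              -- subgroup word
              (force (Nat.land h 255) fun i => force (Nat.shiftRight h 8) fun k =>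
                force (C.sub k) fun u => force (Nat.shiftRight u 8) fun w =>
                force (Nat.shiftRight w (Nat.mul 4 i)) fun w2 =>
                and (Nat.blt k C.nsub) <| and (Nat.blt i (Nat.land u 255)) <|
                and (Nat.beq (Nat.land w2 15) j) <|
                and (C.same s (C.trace s i w 0) c)
                  (C.same s (C.trace s (Nat.sub (Nat.land u 255) (Nat.succ i))
                    (Nat.shiftRight w2 4) d) 0))
              -- transfer
              (force (C.E (Nat.add (Nat.mul h C.nc) j)) fun v' =>
                and (Nat.blt h C.M) <| and (Nat.blt s (Nat.div v' C.B)) <|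
                and (C.same s h c) (C.same s (Nat.mod v' C.B) d))
              (Nat.beq ty 3))
            -- definition
            (and (Nat.beq (C.P d) a) (Nat.blt c d))
            (Nat.beq ty 0))
          -- relator
          (force (Nat.land h 255) fun i => force (Nat.shiftRight h 8) fun k =>
            force (C.rel k) fun u =>
            force (Nat.shiftRight u (Nat.add 8 (Nat.mul 4 i))) fun w2 =>
            and (Nat.blt k C.nrel) <| and (Nat.blt i (Nat.land u 255)) <|
            and (Nat.beq (Nat.land w2 15) j) <|
              C.same s (C.trace s (Nat.pred (Nat.land u 255)) (Nat.shiftRight w2 4) d) c)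
          (Nat.beq ty 1))
        -- inverse
        (force (C.E (Nat.add (Nat.mul h C.nc) (C.inv j))) fun v' =>
          and (Nat.blt h C.M) <| and (Nat.blt s (Nat.div v' C.B)) <|
          and (C.same s h d) (C.same s (Nat.mod v' C.B) c))
        (Nat.beq ty 2))
    true (Nat.beq s 0)

/-- Check of the coincidence killing the name `d`. -/
noncomputable def checkR (d : Nat) : Bool :=
  force d fun d => force (C.R d) fun r => force (Nat.div r C.B) fun s =>
  @Bool.rec (fun _ => Bool)
    (force (Nat.mod r C.B) fun c =>
      force (C.JR d) fun J => force (Nat.shiftRight J 3) fun h => force (Nat.land J 7) fun ty =>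
      and (Nat.blt c C.M) <|
      @Bool.rec (fun _ => Bool)
        (@Bool.rec (fun _ => Bool)
          -- subgroup word
          (force (Nat.land h 255) fun i => force (Nat.shiftRight h 8) fun k =>
            force (C.sub k) fun u => force (Nat.shiftRight u 8) fun w =>
            and (Nat.blt k C.nsub) <| and (Nat.ble i (Nat.land u 255)) <|
            and (C.same s (C.trace s i w 0) d)
              (C.same s (C.trace s (Nat.sub (Nat.land u 255) i)
                (Nat.shiftRight w (Nat.mul 4 i)) c) 0))
          -- relator
          (force (Nat.land h 255) fun i => force (Nat.shiftRight h 8) fun k =>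
            force (C.rel k) fun u =>
            and (Nat.blt k C.nrel) <| and (Nat.ble i (Nat.land u 255)) <|
              C.same s (C.trace s (Nat.land u 255)
                (Nat.shiftRight u (Nat.add 8 (Nat.mul 4 i))) d) c)
          (Nat.beq ty 1))
        -- conflict of two entries
        (force (Nat.land h 15) fun j => force (Nat.mod (Nat.shiftRight h 4) C.B) fun e =>
          force (Nat.div (Nat.shiftRight h 4) C.B) fun e' =>
          force (C.E (Nat.add (Nat.mul e C.nc) j)) fun v =>
          force (C.E (Nat.add (Nat.mul e' C.nc) j)) fun v' =>
          and (Nat.blt j C.nc) <| and (Nat.blt e C.M) <| and (Nat.blt e' C.M) <|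
          and (Nat.blt s (Nat.div v C.B)) <| and (Nat.blt s (Nat.div v' C.B)) <|
          and (C.same s e e') <| and (C.same s (Nat.mod v C.B) d) (C.same s (Nat.mod v' C.B) c))
        (Nat.beq ty 2))
    true (Nat.beq s 0)

/-- Check of the final table: `nm i` is the name of the `i`-th coset, `T i j` the table. -/
noncomputable def checkT (N : Nat) (nm : Nat → Nat) (T : Nat → Nat → Nat) (i : Nat) : Bool :=
  force i fun i => force (nm i) fun c => and (Nat.blt c C.M) <|
    allFrom (fun j => force j fun j => force (C.E (Nat.add (Nat.mul c C.nc) j)) fun v =>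
      force (T i j) fun t =>
      and (Nat.blt 0 (Nat.div v C.B)) <| and (Nat.blt t N)
        (Nat.beq (C.rep 0 (Nat.mod v C.B)) (nm t))) 0 C.nc

end Cert

/-- The first `n` letters of a packed word. -/
def unpack : Nat → Nat → List Nat
  | 0, _ => []
  | n + 1, w => (w &&& 15) :: unpack n (w >>> 4)

/-- The formal inverse of a word. -/
def invWord (inv : Nat → Nat) (w : List Nat) : List Nat := (w.map inv).reverse

/-- Static checks of a certificate against lists of relators and subgroup words. -/
noncomputable def Cert.checkW (C : Cert) (rels subs : List (List Nat)) : Bool :=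
  decide (0 < C.M) && decide (0 < C.nc) &&
  allFrom (fun j => decide (C.inv j < C.nc) && (C.E (C.M * C.nc + j) / C.B == 0)) 0 C.nc &&
  (C.R C.M / C.B == 0) &&
  (rels ++ subs).all (fun r => r.all fun j => decide (j < C.nc)) &&
  allFrom (fun k => (rels ++ rels.map (invWord C.inv)).any fun r =>
    (C.rel k &&& 255 == r.length) && (unpack (2 * r.length) (C.rel k >>> 8) == r ++ r)) 0 C.nrel &&
  allFrom (fun k => (subs ++ subs.map (invWord C.inv)).any fun r =>
    (C.sub k &&& 255 == r.length) && (unpack r.length (C.sub k >>> 8) == r)) 0 C.nsub

theorem lt_zero_elim {f : Nat → Bool} : ∀ i, i < 0 → f i = true := fun _ h => absurd h (by omega)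

theorem lt_add_step {f : Nat → Bool} {a n : Nat} (h : ∀ i, i < a → f i = true)
    (h' : allFrom f a n = true) : ∀ i, i < a + n → f i = true := fun i hi =>
  (Nat.lt_or_ge i a).elim (h i) fun h1 => allFrom_spec h' i h1 hi

/-- All checks of a certificate pass; the final table `T` has `N` rows. -/
structure Cert.OK (C : Cert) (rels subs : List (List Nat)) (N : Nat) (T : Nat → Nat → Nat) :
    Prop where
  hW : C.checkW rels subs = true
  hE : ∀ a, a < C.M * C.nc → C.checkE a = true
  hR : ∀ d, d < C.M → C.checkR d = true
  hT : ∃ nm : Nat → Nat, nm 0 = 0 ∧ ∀ i, i < N → C.checkT N nm T i = true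

end CL.TC
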