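import Cfsg.Agent.Base
import Cfsg.Agent.TC.Check
import Cfsg.Agent.Auto.ACL_TC_unpack_7ef0f8
import Cfsg.Agent.Auto.ACL_TC_invWord_a696d2

/-!
# Soundness of the Todd–Coxeter checker
-/

set_option autoImplicit false

namespace CL.TC

/-- The value of a word. -/
def ev {G : Type*} [Monoid G] (g : Nat → G) (w : List Nat) : G := (w.map g).prod

section ev
variable {G : Type*} [Group G] (g : Nat → G)

@[simp] theorem ev_nil : ev g [] = 1 := rfl
@[simp] theorem ev_cons (j : Nat) (w : List Nat) : ev g (j :: w) = g j * ev g w := by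
  simp [ev]
@[simp] theorem ev_append (v w : List Nat) : ev g (v ++ w) = ev g v * ev g w := by
  simp [ev]

theorem ev_invWord {inv : Nat → Nat} {w : List Nat} (h : ∀ j ∈ w, g (inv j) = (g j)⁻¹) :
    ev g (invWord inv w) = (ev g w)⁻¹ := by
  induction w with
  | nil => simp [invWord]
  | cons j w ih =>
    have h1 := ih fun i hi => h i (List.mem_cons_of_mem _ hi)
    have h2 := h j List.mem_cons_self
    simp only [invWord, List.map_cons, List.reverse_cons, ev_append, ev_cons, ev_nil, mul_one,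
      mul_inv_rev] at h1 ⊢
    rw [h1, h2]

theorem ev_mem {K : Subgroup G} {w : List Nat} (h : ∀ j ∈ w, g j ∈ K) : ev g w ∈ K := by
  induction w with
  | nil => simp
  | cons j w ih =>
    rw [ev_cons]
    exact K.mul_mem (h j List.mem_cons_self) (ih fun i hi => h i (List.mem_cons_of_mem _ hi))

theorem map_ev {H : Type*} [Group H] (f : G →* H) (w : List Nat) :
    f (ev g w) = ev (fun j => f (g j)) w := by
  induction w with
  | nil => simp
  | cons j w ih => simp [ih]

end ev

theorem length_unpack (n w : Nat) : (unpack n w).length = n := by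
  induction n generalizing w with
  | zero => rfl
  | succ n ih => simp [unpack, ih]

theorem unpack_add (m n w : Nat) :
    unpack (m + n) w = unpack m w ++ unpack n (w >>> (4 * m)) := by
  induction m generalizing w with
  | zero => simp [unpack]
  | succ m ih =>
    have e : m + 1 + n = (m + n) + 1 := by omega
    rw [e, unpack, unpack, ih, List.cons_append, ← Nat.shiftRight_add]
    have e2 : 4 + 4 * m = 4 * (m + 1) := by omega
    rw [e2]

theorem brec_true {b x y : Bool} (h : @Bool.rec (fun _ => Bool) x y b = true) :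
    (b = false ∧ x = true) ∨ (b = true ∧ y = true) := by
  cases b
  · exact Or.inl ⟨rfl, h⟩
  · exact Or.inr ⟨rfl, h⟩

namespace Cert

variable {G X : Type*} [Group G] [MulAction G X] (C : Cert) (g : Nat → G) (x0 : X)

/-- The representative of a name. -/
def rp (d : Nat) : G :=
  if C.P d / C.nc < d then rp (C.P d / C.nc) * g (C.P d % C.nc) else 1
termination_by d

/-- The point of a name. -/
def pt (d : Nat) : X := (C.rp g d)⁻¹ • x0

theorem rp_zero : C.rp g 0 = 1 := by rw [rp]; simp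

theorem rp_mem {K : Subgroup G} (h0 : 0 < C.nc) (h : ∀ j, j < C.nc → g j ∈ K) (d : Nat) :
    C.rp g d ∈ K := by
  induction d using Nat.strong_induction_on with
  | _ d ih =>
    rw [rp]
    split_ifs with hd
    · exact K.mul_mem (ih _ hd) (h _ (Nat.mod_lt _ h0))
    · exact K.one_mem

/-- All entries of rank `> s` are correct. -/
def FE (s : Nat) : Prop := ∀ c j, c ≤ C.M → j < C.nc → s < C.E (c * C.nc + j) / C.B →
  c < C.M ∧ C.E (c * C.nc + j) % C.B < C.M ∧
    C.pt g x0 (C.E (c * C.nc + j) % C.B) = (g j)⁻¹ • C.pt g x0 c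

/-- All coincidences of rank `> s` are correct. -/
def FR (s : Nat) : Prop := ∀ d, d ≤ C.M → s < C.R d / C.B →
  d < C.M ∧ C.R d % C.B < C.M ∧ C.pt g x0 (C.R d % C.B) = C.pt g x0 d

variable {C g x0}

theorem rep_spec {s : Nat} (hR : C.FR g x0 s) {e : Nat} (he : e ≤ C.M) :
    C.rep s e ≤ C.M ∧ (C.rep s e < C.M ↔ e < C.M) ∧ C.pt g x0 (C.rep s e) = C.pt g x0 e := by
  unfold rep
  generalize 64 = k
  induction k generalizing e with
  | zero => exact ⟨he, Iff.rfl, rfl⟩
  | succ k ih =>
    dsimp only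
    rw [force_eq]
    cases hb : Nat.ble (Nat.div (C.R e) C.B) s with
    | true => exact ⟨he, Iff.rfl, rfl⟩
    | false =>
      have hs : s < C.R e / C.B := by
        have := Nat.not_le_of_not_ble_eq_true (n := Nat.div (C.R e) C.B) (m := s) (by simp [hb])
        exact Nat.lt_of_not_le this
      obtain ⟨h1, h2, h3⟩ := hR e he hs
      obtain ⟨h4, h5, h6⟩ := ih (e := Nat.mod (C.R e) C.B) h2.le
      exact ⟨h4, ⟨fun _ => h1, fun _ => h5.2 h2⟩, h6.trans h3⟩

theorem same_spec {s : Nat} (hR : C.FR g x0 s) {a b : Nat} (ha : a ≤ C.M) (hb : b < C.M)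
    (h : C.same s a b = true) : a < C.M ∧ C.pt g x0 a = C.pt g x0 b := by
  have h1 : C.rep s a = C.rep s b := Nat.eq_of_beq_eq_true h
  obtain ⟨-, h2, h3⟩ := rep_spec hR ha
  obtain ⟨-, h4, h5⟩ := rep_spec hR hb.le
  exact ⟨h2.1 (h1 ▸ h4.2 hb), by rw [← h3, ← h5, h1]⟩

theorem step_spec {s : Nat} (hE : C.FE g x0 s) (hR : C.FR g x0 s) {j e : Nat} (hj : j < C.nc)
    (he : e ≤ C.M) : C.step s j e ≤ C.M ∧ (C.step s j e < C.M →
      e < C.M ∧ C.pt g x0 (C.step s j e) = (g j)⁻¹ • C.pt g x0 e) := by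
  unfold step
  generalize 64 = k
  induction k generalizing e with
  | zero => exact ⟨le_rfl, fun h => absurd h (lt_irrefl _)⟩
  | succ k ih =>
    dsimp only
    rw [force_eq]
    cases hb : Nat.ble (Nat.div (C.E (Nat.add (Nat.mul e C.nc) j)) C.B) s with
    | false =>
      have hs : s < C.E (e * C.nc + j) / C.B :=
        Nat.lt_of_not_le (Nat.not_le_of_not_ble_eq_true (by rw [← Bool.not_eq_true] at hb; exact hb))
      obtain ⟨h1, h2, h3⟩ := hE e j he hj hs
      exact ⟨h2.le, fun _ => ⟨h1, h3⟩⟩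
    | true =>
      dsimp only
      rw [force_eq]
      cases hb' : Nat.ble (Nat.div (C.R e) C.B) s with
      | true => exact ⟨le_rfl, fun h => absurd h (lt_irrefl _)⟩
      | false =>
        have hs : s < C.R e / C.B :=
          Nat.lt_of_not_le (Nat.not_le_of_not_ble_eq_true
            (by rw [← Bool.not_eq_true] at hb'; exact hb'))
        obtain ⟨h1, h2, h3⟩ := hR e he hs
        obtain ⟨h4, h5⟩ := ih (e := Nat.mod (C.R e) C.B) h2.le
        refine ⟨h4, fun h => ⟨h1, ?_⟩⟩
        rw [← h3]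
        exact (h5 h).2

theorem trace_succ (s n w e : Nat) : C.trace s (n + 1) w e =
    C.trace s n (w >>> 4) (C.step s (w &&& 15) e) := by
  show force (C.step s (Nat.land w 15) e) (fun e' =>
      force (Nat.shiftRight w 4) fun w' => C.trace s n w' e') = _
  rw [force_eq, force_eq]
  rfl

theorem trace_spec {s : Nat} (hE : C.FE g x0 s) (hR : C.FR g x0 s) {n w e : Nat}
    (hw : ∀ j ∈ unpack n w, j < C.nc) (he : e ≤ C.M) :
    C.trace s n w e ≤ C.M ∧ (C.trace s n w e < C.M →
      e < C.M ∧ C.pt g x0 (C.trace s n w e) = (ev g (unpack n w))⁻¹ • C.pt g x0 e) := by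
  induction n generalizing w e with
  | zero => exact ⟨he, fun h => ⟨h, by simp [unpack]; rfl⟩⟩
  | succ n ih =>
    rw [trace_succ]
    obtain ⟨h1, h2⟩ := step_spec hE hR (hw (w &&& 15) (by simp [unpack])) he
    obtain ⟨h3, h4⟩ := ih (w := w >>> 4) (fun j hj => hw j (by simp [unpack, hj])) h1
    refine ⟨h3, fun h => ?_⟩
    obtain ⟨h5, h6⟩ := h4 h
    obtain ⟨h7, h8⟩ := h2 h5
    refine ⟨h7, ?_⟩
    rw [h6, h8, unpack, ev_cons, mul_inv_rev, mul_smul]

theorem same_trace {s : Nat} (hE : C.FE g x0 s) (hR : C.FR g x0 s) {n w e b : Nat}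
    (hw : ∀ j ∈ unpack n w, j < C.nc) (he : e < C.M) (hb : b < C.M)
    (h : C.same s (C.trace s n w e) b = true) :
    C.pt g x0 b = (ev g (unpack n w))⁻¹ • C.pt g x0 e := by
  obtain ⟨h1, h2⟩ := trace_spec hE hR hw he.le
  obtain ⟨h3, h4⟩ := same_spec hR h1 hb h
  rw [← h4, (h2 h3).2]

/-- The semantic content of the static checks. -/
structure Stat (C : Cert) (g : Nat → G) (x0 : X) : Prop where
  M_pos : 0 < C.M
  nc_pos : 0 < C.nc
  inv_lt : ∀ j, j < C.nc → C.inv j < C.nc
  g_inv : ∀ j, j < C.nc → g (C.inv j) = (g j)⁻¹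
  E_M : ∀ j, j < C.nc → C.E (C.M * C.nc + j) / C.B = 0
  R_M : C.R C.M / C.B = 0
  rel : ∀ k, k < C.nrel → ∀ i, i ≤ C.rel k &&& 255 →
    (∀ j ∈ unpack (C.rel k &&& 255) (C.rel k >>> (8 + 4 * i)), j < C.nc) ∧
      ev g (unpack (C.rel k &&& 255) (C.rel k >>> (8 + 4 * i))) = 1
  sub : ∀ k, k < C.nsub → (∀ j ∈ unpack (C.sub k &&& 255) (C.sub k >>> 8), j < C.nc) ∧
      (ev g (unpack (C.sub k &&& 255) (C.sub k >>> 8)))⁻¹ • x0 = x0

theorem pt_zero : C.pt g x0 0 = x0 := by simp [pt, rp_zero]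

theorem sub_split (S : Stat C g x0) {s : Nat} (hE : C.FE g x0 s) (hR : C.FR g x0 s) {k i : Nat}
    (hk : k < C.nsub) (hi : i ≤ C.sub k &&& 255) {c : Nat} (hc : c < C.M)
    (h1 : C.same s (C.trace s i (C.sub k >>> 8) 0) c = true) :
    (∀ j ∈ unpack ((C.sub k &&& 255) - i) ((C.sub k >>> 8) >>> (4 * i)), j < C.nc) ∧
    (ev g (unpack ((C.sub k &&& 255) - i) ((C.sub k >>> 8) >>> (4 * i))))⁻¹ • C.pt g x0 c = x0 := by
  obtain ⟨h2, h3⟩ := S.sub k hk
  have e : (C.sub k &&& 255) = i + ((C.sub k &&& 255) - i) := by omega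
  rw [e, unpack_add] at h2 h3
  have h4 := same_trace hE hR (fun j hj => h2 j (List.mem_append_left _ hj)) S.M_pos hc h1
  refine ⟨fun j hj => h2 j (List.mem_append_right _ hj), ?_⟩
  rw [h4, pt_zero, ← mul_smul, ← mul_inv_rev, ← ev_append, h3]

theorem checkE_spec (S : Stat C g x0) {c j : Nat} (hc : c < C.M) (hj : j < C.nc)
    (h : C.checkE (c * C.nc + j) = true) (h0 : 0 < C.E (c * C.nc + j) / C.B)
    (hE : C.FE g x0 (C.E (c * C.nc + j) / C.B)) (hR : C.FR g x0 (C.E (c * C.nc + j) / C.B)) :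
    C.E (c * C.nc + j) % C.B < C.M ∧
      C.pt g x0 (C.E (c * C.nc + j) % C.B) = (g j)⁻¹ • C.pt g x0 c := by
  have e1 : Nat.div (c * C.nc + j) C.nc = c := by
    show (c * C.nc + j) / C.nc = c
    rw [Nat.add_comm, Nat.add_mul_div_right _ _ S.nc_pos, Nat.div_eq_of_lt hj, Nat.zero_add]
  have e2 : Nat.mod (c * C.nc + j) C.nc = j := by
    show (c * C.nc + j) % C.nc = j
    rw [Nat.add_comm, Nat.add_mul_mod_self_right, Nat.mod_eq_of_lt hj]
  unfold checkE at h
  simp only [force_eq, e1, e2] at h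
  change @Bool.rec (fun _ => Bool) _ true (Nat.beq (C.E (c * C.nc + j) / C.B) 0) = true at h
  generalize hd : C.E (c * C.nc + j) % C.B = d at *
  have hd' : Nat.mod (C.E (c * C.nc + j)) C.B = d := hd
  have hs' : Nat.div (C.E (c * C.nc + j)) C.B = C.E (c * C.nc + j) / C.B := rfl
  rw [hd', hs'] at h
  generalize C.E (c * C.nc + j) / C.B = s at *
  generalize Nat.shiftRight (C.JE (c * C.nc + j)) 3 = hh at h
  generalize Nat.land (C.JE (c * C.nc + j)) 7 = ty at h
  rcases brec_true h with ⟨-, h⟩ | ⟨h1, -⟩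
  swap
  · have := Nat.eq_of_beq_eq_true h1; omega
  rw [Bool.and_eq_true] at h
  obtain ⟨hdM, h⟩ := h
  have hdM : d < C.M := by simpa using hdM
  refine ⟨hdM, ?_⟩
  rcases brec_true h with ⟨-, h⟩ | ⟨-, h⟩
  · rcases brec_true h with ⟨-, h⟩ | ⟨-, h⟩
    · rcases brec_true h with ⟨-, h⟩ | ⟨-, h⟩
      · rcases brec_true h with ⟨-, h⟩ | ⟨-, h⟩
        · -- subgroup word
          generalize Nat.land hh 255 = i at h
          generalize Nat.shiftRight hh 8 = k at h
          simp only [Bool.and_eq_true, Nat.blt_eq] at h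
          obtain ⟨hk, hi, hj', h1, h2⟩ := h
          obtain ⟨h3, h4⟩ := sub_split S hE hR hk hi.le hc h1
          have e : (C.sub k &&& 255) - i = Nat.sub (Nat.land (C.sub k) 255) (Nat.succ i) + 1 := by
            show _ = (C.sub k &&& 255) - (i + 1) + 1
            have : i < C.sub k &&& 255 := hi
            omega
          rw [e, unpack] at h3 h4
          have hj'' : (C.sub k >>> 8) >>> (4 * i) &&& 15 = j := Nat.eq_of_beq_eq_true hj'
          have h5 := same_trace hE hR (fun j hj => h3 j (List.mem_cons_of_mem _ hj)) hdM S.M_pos h2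
          rw [hj'', ev_cons, mul_inv_rev, mul_smul] at h4
          rw [pt_zero] at h5
          exact MulAction.injective _ (h5.symm.trans h4.symm)
        · -- transfer
          simp only [Bool.and_eq_true, Nat.blt_eq] at h
          obtain ⟨hk, hs, h1, h2⟩ := h
          obtain ⟨-, h3, h4⟩ := hE hh j hk.le hj hs
          rw [← (same_spec hR hk.le hc h1).2, ← (same_spec hR h3.le hdM h2).2]
          exact h4
      · -- definition
        simp only [Bool.and_eq_true, Nat.blt_eq] at h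
        obtain ⟨h1, h2⟩ := h
        have h1 : C.P d = c * C.nc + j := Nat.eq_of_beq_eq_true h1
        have e1' : (c * C.nc + j) / C.nc = c := e1
        have e2' : (c * C.nc + j) % C.nc = j := e2
        unfold pt
        rw [rp, h1, e1', e2', if_pos h2, mul_inv_rev, mul_smul]
    · -- relator
      generalize Nat.land hh 255 = i at h
      generalize Nat.shiftRight hh 8 = k at h
      simp only [Bool.and_eq_true, Nat.blt_eq] at h
      obtain ⟨hk, hi, hj', h1⟩ := h
      obtain ⟨h3, h4⟩ := S.rel k hk i hi.le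
      have e : (C.rel k &&& 255) = Nat.pred (Nat.land (C.rel k) 255) + 1 := by
        show _ = (C.rel k &&& 255) - 1 + 1
        have : i < C.rel k &&& 255 := hi
        omega
      rw [e, unpack] at h3 h4
      have hj'' : C.rel k >>> (8 + 4 * i) &&& 15 = j := Nat.eq_of_beq_eq_true hj'
      have h5 := same_trace hE hR (fun j hj => h3 j (List.mem_cons_of_mem _ hj)) hdM hc h1
      rw [hj'', ev_cons] at h4
      rw [h5, ← mul_smul, ← mul_inv_rev]
      have h6 := mul_eq_one_comm.1 h4
      erw [h6]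
      simp
  · -- inverse
    simp only [Bool.and_eq_true, Nat.blt_eq] at h
    obtain ⟨hk, hs, h1, h2⟩ := h
    obtain ⟨-, h3, h4⟩ := hE hh _ hk.le (S.inv_lt j hj) hs
    rw [← (same_spec hR hk.le hdM h1).2, ← (same_spec hR h3.le hc h2).2]
    erw [h4]
    rw [S.g_inv j hj, inv_inv, inv_smul_smul]

theorem checkR_spec (S : Stat C g x0) {d : Nat} (hd : d < C.M)
    (h : C.checkR d = true) (h0 : 0 < C.R d / C.B)
    (hE : C.FE g x0 (C.R d / C.B)) (hR : C.FR g x0 (C.R d / C.B)) :
    C.R d % C.B < C.M ∧ C.pt g x0 (C.R d % C.B) = C.pt g x0 d := by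
  unfold checkR at h
  simp only [force_eq] at h
  change @Bool.rec (fun _ => Bool) _ true (Nat.beq (C.R d / C.B) 0) = true at h
  generalize hc : C.R d % C.B = c at *
  have hc' : Nat.mod (C.R d) C.B = c := hc
  have hs' : Nat.div (C.R d) C.B = C.R d / C.B := rfl
  rw [hc', hs'] at h
  generalize C.R d / C.B = s at *
  generalize Nat.shiftRight (C.JR d) 3 = hh at h
  generalize Nat.land (C.JR d) 7 = ty at h
  rcases brec_true h with ⟨-, h⟩ | ⟨h1, -⟩
  swap
  · have := Nat.eq_of_beq_eq_true h1; omega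
  rw [Bool.and_eq_true] at h
  obtain ⟨hcM, h⟩ := h
  have hcM : c < C.M := by simpa using hcM
  refine ⟨hcM, ?_⟩
  rcases brec_true h with ⟨-, h⟩ | ⟨-, h⟩
  · rcases brec_true h with ⟨-, h⟩ | ⟨-, h⟩
    · -- subgroup word
      generalize Nat.land hh 255 = i at h
      generalize Nat.shiftRight hh 8 = k at h
      simp only [Bool.and_eq_true, Nat.blt_eq, Nat.ble_eq] at h
      obtain ⟨hk, hi, h1, h2⟩ := h
      obtain ⟨h3, h4⟩ := sub_split S hE hR hk hi hd h1
      have h5 := same_trace hE hR h3 hcM S.M_pos h2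
      rw [pt_zero] at h5
      exact MulAction.injective _ (h5.symm.trans h4.symm)
    · -- relator
      generalize Nat.land hh 255 = i at h
      generalize Nat.shiftRight hh 8 = k at h
      simp only [Bool.and_eq_true, Nat.blt_eq, Nat.ble_eq] at h
      obtain ⟨hk, hi, h1⟩ := h
      obtain ⟨h3, h4⟩ := S.rel k hk i hi
      have h5 := same_trace hE hR h3 hd hcM h1
      erw [h4] at h5
      simpa using h5
  · -- conflict
    generalize Nat.land hh 15 = j at h
    generalize Nat.mod (Nat.shiftRight hh 4) C.B = e at h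
    generalize Nat.div (Nat.shiftRight hh 4) C.B = e' at h
    simp only [Bool.and_eq_true, Nat.blt_eq] at h
    obtain ⟨hj, he, he', hs, hs', h1, h2, h3⟩ := h
    obtain ⟨-, h4, h5⟩ := hE e j he.le hj hs
    obtain ⟨-, h6, h7⟩ := hE e' j he'.le hj hs'
    rw [← (same_spec hR h4.le hd h2).2, ← (same_spec hR h6.le hcM h3).2]
    erw [h5, h7]
    rw [(same_spec hR he.le he' h1).2]

theorem all_spec (S : Stat C g x0) (hE : ∀ a, a < C.M * C.nc → C.checkE a = true)
    (hR : ∀ d, d < C.M → C.checkR d = true) : C.FE g x0 0 ∧ C.FR g x0 0 := by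
  obtain ⟨K, hK1, hK2⟩ : ∃ K, (∀ a, a < (C.M + 1) * C.nc → C.E a / C.B ≤ K) ∧
      ∀ d, d ≤ C.M → C.R d / C.B ≤ K := by
    refine ⟨(Finset.range ((C.M + 1) * C.nc)).sup (fun a => C.E a / C.B) ⊔
      (Finset.range (C.M + 1)).sup (fun a => C.R a / C.B), fun a ha => ?_, fun a ha => ?_⟩
    · exact le_sup_of_le_left
        (Finset.le_sup (f := fun a => C.E a / C.B) (Finset.mem_range.2 ha))
    · exact le_sup_of_le_right
        (Finset.le_sup (f := fun a => C.R a / C.B) (Finset.mem_range.2 (by omega)))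
  have hlt : ∀ c j m, c < m → j < C.nc → c * C.nc + j < m * C.nc := fun c j m hc hj =>
    calc c * C.nc + j < c * C.nc + C.nc := by omega
      _ = (c + 1) * C.nc := by ring
      _ ≤ m * C.nc := Nat.mul_le_mul_right _ hc
  have main : ∀ n s, K ≤ s + n → C.FE g x0 s ∧ C.FR g x0 s := by
    intro n
    induction n with
    | zero =>
      intro s hs
      refine ⟨fun c j hc hj h => ?_, fun d hd h => ?_⟩
      · have := hK1 _ (hlt c j (C.M + 1) (by omega) hj); omega
      · have := hK2 d hd; omega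
    | succ n ih =>
      intro s hs
      refine ⟨fun c j hc hj h => ?_, fun d hd h => ?_⟩
      · have hc' : c < C.M := by
          rcases hc.lt_or_eq with h1 | h1
          · exact h1
          · subst h1; have := S.E_M j hj; omega
        obtain ⟨h1, h2⟩ := ih (C.E (c * C.nc + j) / C.B) (by omega)
        exact ⟨hc', checkE_spec S hc' hj (hE _ (hlt c j _ hc' hj)) (by omega) h1 h2⟩
      · have hd' : d < C.M := by
          rcases hd.lt_or_eq with h1 | h1
          · exact h1
          · subst h1; have := S.R_M; omega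
        obtain ⟨h1, h2⟩ := ih (C.R d / C.B) (by omega)
        exact ⟨hd', checkR_spec S hd' (hR _ hd') (by omega) h1 h2⟩
  exact main K 0 (by omega)

theorem stat_of_checkW {rels subs : List (List Nat)} (h : C.checkW rels subs = true)
    (hinv : ∀ j, j < C.nc → g (C.inv j) = (g j)⁻¹) (hrel : ∀ r ∈ rels, ev g r = 1)
    (hsub : ∀ r ∈ subs, ev g r • x0 = x0) : Stat C g x0 := by
  unfold checkW at h
  simp only [Bool.and_eq_true, decide_eq_true_eq, beq_iff_eq, List.all_eq_true] at h
  obtain ⟨⟨⟨⟨⟨⟨h1, h2⟩, h3⟩, h4⟩, h5⟩, h6⟩, h7⟩ := h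
  have h3' : ∀ j, j < C.nc → C.inv j < C.nc ∧ C.E (C.M * C.nc + j) / C.B = 0 := fun j hj => by
    simpa using allFrom_spec h3 j (by omega) (by omega)
  have hlet : ∀ l : List (List Nat), (∀ r ∈ l, r ∈ rels ++ subs) →
      ∀ r ∈ l ++ l.map (invWord C.inv), ∀ j ∈ r, j < C.nc := by
    intro l hl r hr j hj
    rcases List.mem_append.1 hr with hr | hr
    · exact h5 r (hl r hr) j hj
    · obtain ⟨r, hr', rfl⟩ := List.mem_map.1 hr
      simp only [invWord, List.mem_reverse, List.mem_map] at hj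
      obtain ⟨i, hi, rfl⟩ := hj
      exact (h3' i (h5 r (hl r hr') i hi)).1
  refine ⟨h1, h2, fun j hj => (h3' j hj).1, hinv, fun j hj => (h3' j hj).2, h4, ?_, ?_⟩
  · intro k hk i hi
    have := allFrom_spec h6 k (by omega) (by omega)
    simp only [List.any_eq_true, Bool.and_eq_true, beq_iff_eq] at this
    obtain ⟨r, hr, e1, e2⟩ := this
    have hr1 := hlet rels (fun r hr => List.mem_append_left _ hr) r hr
    have hr2 : ev g r = 1 := by
      rcases List.mem_append.1 hr with hr | hr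
      · exact hrel r hr
      · obtain ⟨r, hr', rfl⟩ := List.mem_map.1 hr
        rw [ev_invWord g fun j hj => hinv j (h5 r (List.mem_append_left _ hr') j hj), hrel r hr',
          inv_one]
    rw [e1] at hi ⊢
    have e3 : 2 * r.length = i + (r.length + (r.length - i)) := by omega
    rw [e3, unpack_add, unpack_add, ← Nat.shiftRight_add] at e2
    have e4 : unpack r.length (C.rel k >>> (8 + 4 * i)) = r.drop i ++ r.take i := by
      have e5 := congrArg (fun l => (l.drop i).take r.length) e2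
      simp only [List.drop_left' (length_unpack _ _), List.take_left' (length_unpack _ _)] at e5
      rw [e5, List.drop_append_of_le_length hi, List.take_append, List.length_drop,
        List.take_of_length_le (by simp)]
      congr 2
      omega
    rw [e4]
    refine ⟨fun j hj => ?_, ?_⟩
    · rcases List.mem_append.1 hj with hj | hj
      · exact hr1 j (List.mem_of_mem_drop hj)
      · exact hr1 j (List.mem_of_mem_take hj)
    · rw [ev_append, mul_eq_one_comm, ← ev_append, List.take_append_drop, hr2]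
  · intro k hk
    have := allFrom_spec h7 k (by omega) (by omega)
    simp only [List.any_eq_true, Bool.and_eq_true, beq_iff_eq] at this
    obtain ⟨r, hr, e1, e2⟩ := this
    rw [e1, e2]
    refine ⟨hlet subs (fun r hr => List.mem_append_right _ hr) r hr, ?_⟩
    rcases List.mem_append.1 hr with hr | hr
    · rw [inv_smul_eq_iff, hsub r hr]
    · obtain ⟨r, hr', rfl⟩ := List.mem_map.1 hr
      rw [ev_invWord g fun j hj => hinv j (h5 r (List.mem_append_right _ hr') j hj), inv_inv,
        hsub r hr']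

/-- Soundness: there are coset representatives multiplied according to the table. -/
theorem OK.sound {rels subs : List (List Nat)} {N : Nat} {T : Nat → Nat → Nat}
    (h : C.OK rels subs N T) (g : Nat → G) (x0 : X)
    (hinv : ∀ j, j < C.nc → g (C.inv j) = (g j)⁻¹) (hrel : ∀ r ∈ rels, ev g r = 1)
    (hsub : ∀ r ∈ subs, ev g r • x0 = x0) :
    ∃ q : Nat → G, q 0 = 1 ∧ (∀ K : Subgroup G, (∀ j, j < C.nc → g j ∈ K) → ∀ i, q i ∈ K) ∧
      ∀ i, i < N → ∀ j, j < C.nc → T i j < N ∧ (q (T i j))⁻¹ • x0 = (q i * g j)⁻¹ • x0 := by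
  have S := stat_of_checkW h.hW hinv hrel hsub
  obtain ⟨hE, hR⟩ := all_spec S h.hE h.hR
  obtain ⟨nm, h0, hT⟩ := h.hT
  refine ⟨fun i => C.rp g (nm i), by simp [h0, rp_zero],
    fun K hK i => C.rp_mem g S.nc_pos hK _, fun i hi j hj => ?_⟩
  have h1 := hT i hi
  unfold checkT at h1
  simp only [force_eq, Bool.and_eq_true, Nat.blt_eq] at h1
  have h2 := allFrom_spec h1.2 j (by omega) (by omega)
  simp only [Bool.and_eq_true, Nat.blt_eq] at h2
  obtain ⟨h3, h4, h5⟩ := h2
  refine ⟨h4, ?_⟩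
  obtain ⟨-, h6, h7⟩ := hE (nm i) j h1.1.le hj h3
  have h8 := (rep_spec hR h6.le).2.2
  have h9 : C.rep 0 (C.E (nm i * C.nc + j) % C.B) = nm (T i j) := Nat.eq_of_beq_eq_true h5
  rw [h9, h7] at h8
  rw [mul_inv_rev, mul_smul]
  exact h8

/-- Index bound: a subgroup containing the subgroup words has index at most `N` in the
subgroup generated by it and the generators. -/
theorem OK.cover {rels subs : List (List Nat)} {N : Nat} {T : Nat → Nat → Nat}
    (h : C.OK rels subs N T) (hN : 0 < N) (g : Nat → G) (K : Subgroup G)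
    (hinv : ∀ j, j < C.nc → g (C.inv j) = (g j)⁻¹) (hrel : ∀ r ∈ rels, ev g r = 1)
    (hsub : ∀ r ∈ subs, ev g r ∈ K) :
    ∃ q : Nat → G, ∀ a ∈ Subgroup.closure {a | ∃ j, j < C.nc ∧ g j = a},
      ∃ i, i < N ∧ a * (q i)⁻¹ ∈ K := by
  have S := stat_of_checkW h.hW hinv hrel (x0 := ((1 : G) : G ⧸ K)) (fun r hr => by
    simpa [QuotientGroup.eq] using hsub r hr)
  obtain ⟨q, h0, -, hq⟩ := h.sound g ((1 : G) : G ⧸ K) hinv hrel (fun r hr => by
    simpa [QuotientGroup.eq] using hsub r hr)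
  have step : ∀ a j, j < C.nc → (∃ i, i < N ∧ a * (q i)⁻¹ ∈ K) →
      ∃ i, i < N ∧ a * g j * (q i)⁻¹ ∈ K := by
    rintro a j hj ⟨i, hi, ha⟩
    obtain ⟨h1, h2⟩ := hq i hi j hj
    refine ⟨_, h1, ?_⟩
    simp only [MulAction.Quotient.smul_coe, smul_eq_mul, mul_one, QuotientGroup.eq, inv_inv] at h2
    have := K.mul_mem ha (K.inv_mem h2)
    simpa [mul_assoc] using this
  refine ⟨q, fun a ha => ?_⟩
  induction ha using Subgroup.closure_induction_right with
  | one => exact ⟨0, hN, by simp [h0]⟩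
  | mul_right a _ b hb ih =>
    obtain ⟨j, hj, rfl⟩ := hb
    exact step a j hj ih
  | mul_inv_cancel a _ b hb ih =>
    obtain ⟨j, hj, rfl⟩ := hb
    rw [← hinv j hj]
    exact step a _ (S.inv_lt j hj) ih

/-- Order bound. -/
theorem OK.card_le {rels subs : List (List Nat)} {N : Nat} {T : Nat → Nat → Nat}
    (h : C.OK rels subs N T) (hN : 0 < N) (g : Nat → G) (K : Subgroup G) [Finite K]
    (hinv : ∀ j, j < C.nc → g (C.inv j) = (g j)⁻¹) (hrel : ∀ r ∈ rels, ev g r = 1)
    (hsub : ∀ r ∈ subs, ev g r ∈ K) :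
    Finite (Subgroup.closure {a | ∃ j, j < C.nc ∧ g j = a}) ∧
      Nat.card (Subgroup.closure {a | ∃ j, j < C.nc ∧ g j = a}) ≤ N * Nat.card K := by
  obtain ⟨q, hq⟩ := h.cover hN g K hinv hrel hsub
  choose f hf1 hf2 using hq
  let F : Subgroup.closure {a | ∃ j, j < C.nc ∧ g j = a} → Fin N × K :=
    fun a => (⟨f a a.2, hf1 a a.2⟩, ⟨_, hf2 a a.2⟩)
  have hF : Function.Injective F := by
    intro a b hab
    simp only [F, Prod.mk.injEq, Fin.mk.injEq, Subtype.mk.injEq] at hab
    obtain ⟨h1, h2⟩ := hab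
    rw [h1] at h2
    exact Subtype.ext (mul_right_cancel h2)
  refine ⟨Finite.of_injective F hF, ?_⟩
  simpa using Nat.card_le_card_of_injective F hF

/-- Collapse: if the final table has one row, all generators lie in the subgroup. -/
theorem OK.mem_of_one {rels subs : List (List Nat)} {T : Nat → Nat → Nat}
    (h : C.OK rels subs 1 T) (g : Nat → G) (K : Subgroup G)
    (hinv : ∀ j, j < C.nc → g (C.inv j) = (g j)⁻¹) (hrel : ∀ r ∈ rels, ev g r = 1)
    (hsub : ∀ r ∈ subs, ev g r ∈ K) {j : Nat} (hj : j < C.nc) : g j ∈ K := by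
  obtain ⟨q, hq⟩ := h.cover one_pos g K hinv hrel hsub
  obtain ⟨i, hi, h1⟩ := hq 1 (Subgroup.one_mem _)
  obtain ⟨i', hi', h2⟩ := hq (g j) (Subgroup.subset_closure ⟨j, hj, rfl⟩)
  have e : i' = i := by omega
  subst e
  simpa using K.mul_mem h2 (K.inv_mem h1)

/-- Enumeration over the trivial subgroup. -/
theorem OK.regular {rels : List (List Nat)} {N : Nat} {T : Nat → Nat → Nat}
    (h : C.OK rels [] N T) (g : Nat → G)
    (hinv : ∀ j, j < C.nc → g (C.inv j) = (g j)⁻¹) (hrel : ∀ r ∈ rels, ev g r = 1) :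
    ∃ q : Nat → G, q 0 = 1 ∧ ∀ i, i < N → ∀ j, j < C.nc → T i j < N ∧ q (T i j) = q i * g j := by
  obtain ⟨q, h0, -, hq⟩ := h.sound g (1 : G) hinv hrel (by simp)
  refine ⟨q, h0, fun i hi j hj => ⟨(hq i hi j hj).1, ?_⟩⟩
  simpa [← mul_inv_rev] using (hq i hi j hj).2

end Cert

end CL.TC
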