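import Cfsg.Agent.Base
import Cfsg.Agent.TC.Sound

/-!
# Permutations and groups given by coset tables
-/

set_option autoImplicit false

namespace CL.TC

/-- Trace a word through a table. -/
noncomputable def runL (T : Nat → Nat → Nat) (w : List Nat) (i : Nat) : Nat :=
  @List.rec Nat (fun _ => Nat → Nat) (fun i => i)
    (fun j _ ih i => force (T i j) ih) w i

theorem runL_nil (T : Nat → Nat → Nat) (i : Nat) : runL T [] i = i := rfl

theorem runL_cons (T : Nat → Nat → Nat) (j : Nat) (w : List Nat) (i : Nat) :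
    runL T (j :: w) i = runL T w (T i j) := by
  show force (T i j) (runL T w) = _
  rw [force_eq]

theorem runL_append (T : Nat → Nat → Nat) (v w : List Nat) (i : Nat) :
    runL T (v ++ w) i = runL T w (runL T v i) := by
  induction v generalizing i with
  | nil => rfl
  | cons j v ih => rw [List.cons_append, runL_cons, runL_cons, ih]

/-- Trace a packed word through a table. -/
noncomputable def runP (T : Nat → Nat → Nat) (n w i : Nat) : Nat :=
  @Nat.rec (fun _ => Nat → Nat → Nat) (fun _ i => i)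
    (fun _ ih w i => force (T i (Nat.land w 15)) fun i' =>
      force (Nat.shiftRight w 4) fun w' => ih w' i') n w i

theorem runP_eq (T : Nat → Nat → Nat) (n w i : Nat) : runP T n w i = runL T (unpack n w) i := by
  induction n generalizing w i with
  | zero => rfl
  | succ n ih =>
    show force (T i (Nat.land w 15)) (fun i' =>
      force (Nat.shiftRight w 4) fun w' => runP T n w' i') = _
    rw [force_eq, force_eq, ih, unpack, runL_cons]
    rfl

theorem runL_spec {G : Type*} [Group G] {T : Nat → Nat → Nat} {N nc : Nat} {q g : Nat → G}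
    (h : ∀ i, i < N → ∀ j, j < nc → T i j < N ∧ q (T i j) = q i * g j) {w : List Nat}
    (hw : ∀ j ∈ w, j < nc) {i : Nat} (hi : i < N) :
    runL T w i < N ∧ q (runL T w i) = q i * ev g w := by
  induction w generalizing i with
  | nil => exact ⟨hi, by simp [runL_nil]⟩
  | cons j w ih =>
    obtain ⟨h1, h2⟩ := h i hi j (hw j List.mem_cons_self)
    obtain ⟨h3, h4⟩ := ih (fun k hk => hw k (List.mem_cons_of_mem _ hk)) h1
    rw [runL_cons]
    exact ⟨h3, by rw [h4, h2, ev_cons, mul_assoc]⟩

/-- A table whose columns are permutations of `Fin n`. -/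
structure PTab where
  /-- number of points -/
  n : Nat
  /-- number of columns -/
  nc : Nat
  /-- the table -/
  T : Nat → Nat → Nat
  /-- inverse column -/
  invc : Nat → Nat
  chkc : allFrom (fun j => Nat.blt (invc j) nc && Nat.beq (invc (invc j)) j) 0 nc = true
  chk : allFrom (fun i => allFrom (fun j => force (T i j) fun k =>
    Nat.blt k n && Nat.beq (T k (invc j)) i) 0 nc) 0 n = true

namespace PTab

variable (P : PTab)

theorem invc_lt {j : Nat} (hj : j < P.nc) : P.invc j < P.nc := by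
  have := allFrom_spec P.chkc j (by omega) (by omega)
  simp only [Bool.and_eq_true, Nat.blt_eq] at this
  exact this.1

theorem invc_invc {j : Nat} (hj : j < P.nc) : P.invc (P.invc j) = j := by
  have := allFrom_spec P.chkc j (by omega) (by omega)
  simp only [Bool.and_eq_true, Nat.beq_eq] at this
  exact this.2

theorem T_lt {i j : Nat} (hi : i < P.n) (hj : j < P.nc) : P.T i j < P.n := by
  have := allFrom_spec (allFrom_spec P.chk i (by omega) (by omega)) j (by omega) (by omega)
  simp only [force_eq, Bool.and_eq_true, Nat.blt_eq] at this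
  exact this.1

theorem T_T {i j : Nat} (hi : i < P.n) (hj : j < P.nc) : P.T (P.T i j) (P.invc j) = i := by
  have := allFrom_spec (allFrom_spec P.chk i (by omega) (by omega)) j (by omega) (by omega)
  simp only [force_eq, Bool.and_eq_true, Nat.beq_eq] at this
  exact this.2

/-- The permutation of column `j`; its inverse is `i ↦ T i j`. -/
noncomputable def perm (j : Nat) : Equiv.Perm (Fin P.n) :=
  if hj : j < P.nc then
    { toFun := fun i => ⟨P.T i (P.invc j), P.T_lt i.2 (P.invc_lt hj)⟩
      invFun := fun i => ⟨P.T i j, P.T_lt i.2 hj⟩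
      left_inv := fun i => Fin.ext (by
        have := P.T_T i.2 (P.invc_lt hj)
        rwa [P.invc_invc hj] at this)
      right_inv := fun i => Fin.ext (P.T_T i.2 hj) }
  else 1

theorem perm_inv_apply {j : Nat} (hj : j < P.nc) (i : Fin P.n) :
    (((P.perm j)⁻¹ i : Fin P.n) : Nat) = P.T i j := by
  rw [perm, dif_pos hj]; rfl

theorem perm_invc {j : Nat} (hj : j < P.nc) : P.perm (P.invc j) = (P.perm j)⁻¹ := by
  rw [← inv_eq_iff_eq_inv]
  ext i
  rw [P.perm_inv_apply (P.invc_lt hj), perm, dif_pos hj]; rfl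

theorem ev_inv_apply {w : List Nat} (hw : ∀ j ∈ w, j < P.nc) (i : Fin P.n) :
    (((ev P.perm w)⁻¹ i : Fin P.n) : Nat) = runL P.T w i := by
  induction w generalizing i with
  | nil => simp [runL_nil]
  | cons j w ih =>
    rw [ev_cons, mul_inv_rev, Equiv.Perm.mul_apply,
      ih (fun k hk => hw k (List.mem_cons_of_mem _ hk)), runL_cons,
      P.perm_inv_apply (hw j List.mem_cons_self)]

/-- The words in `rels` fix all points. -/
noncomputable def chkRels (rels : List (List Nat)) : Bool :=
  rels.all fun r => r.all (fun j => Nat.blt j P.nc) &&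
    allFrom (fun i => Nat.beq (runL P.T r i) i) 0 P.n

theorem ev_eq_one {rels : List (List Nat)} (h : P.chkRels rels = true) :
    ∀ r ∈ rels, ev P.perm r = 1 := by
  intro r hr
  simp only [chkRels, List.all_eq_true, Bool.and_eq_true, Nat.blt_eq] at h
  obtain ⟨h1, h2⟩ := h r hr
  rw [← inv_eq_one]
  ext i
  rw [P.ev_inv_apply h1]
  simpa using allFrom_spec h2 i (by omega) (by omega)

end PTab

/-- The word of a packed word with length. -/
def wordOf (u : Nat) : List Nat := unpack (u &&& 255) (u >>> 8)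

/-- A group given by its regular coset table. -/
structure Tab extends PTab where
  /-- a word for every element -/
  wd : Nat → Nat
  /-- inverses -/
  iv : Nat → Nat
  /-- defining relators -/
  rels : List (List Nat)
  pos : 0 < n
  ok : ∃ C : Cert, C.nc = nc ∧ C.inv = invc ∧ C.OK rels [] n T
  chkr : toPTab.chkRels rels = true
  chkw : allFrom (fun i => force (wd i) fun u => (wordOf u).all (fun j => Nat.blt j nc) &&
    Nat.beq (runP T (Nat.land u 255) (Nat.shiftRight u 8) 0) i) 0 n = true
  chki : allFrom (fun i => force (iv i) fun k => force (wd k) fun u => Nat.blt k n &&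
    Nat.beq (runP T (Nat.land u 255) (Nat.shiftRight u 8) i) 0) 0 n = true

namespace Tab

variable (t : Tab)

/-- Multiplication of indices. -/
noncomputable def mul (i k : Nat) : Nat :=
  force (t.wd k) fun u => runP t.T (Nat.land u 255) (Nat.shiftRight u 8) i

theorem mul_eq (i k : Nat) : t.mul i k = runL t.T (wordOf (t.wd k)) i := by
  rw [mul, force_eq, runP_eq]; rfl

theorem word_lt {k : Nat} (hk : k < t.n) : ∀ j ∈ wordOf (t.wd k), j < t.nc := by
  have := allFrom_spec t.chkw k (by omega) (by omega)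
  simp only [force_eq, Bool.and_eq_true, List.all_eq_true, Nat.blt_eq] at this
  exact this.1

theorem zero_mul' {k : Nat} (hk : k < t.n) : t.mul 0 k = k := by
  have := allFrom_spec t.chkw k (by omega) (by omega)
  simp only [force_eq, Bool.and_eq_true, Nat.beq_eq] at this
  rw [mul, force_eq]
  exact this.2

theorem iv_spec {k : Nat} (hk : k < t.n) : t.iv k < t.n ∧ t.mul k (t.iv k) = 0 := by
  have := allFrom_spec t.chki k (by omega) (by omega)
  simp only [force_eq, Bool.and_eq_true, Nat.beq_eq, Nat.blt_eq] at this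
  rw [mul, force_eq]
  exact this

theorem exists_q {G : Type*} [Group G] (g : Nat → G)
    (hinv : ∀ j, j < t.nc → g (t.invc j) = (g j)⁻¹) (hrel : ∀ r ∈ t.rels, ev g r = 1) :
    ∃ q : Nat → G, q 0 = 1 ∧ (∀ i, i < t.n → ∀ j, j < t.nc → q (t.T i j) = q i * g j) ∧
      (∀ k, k < t.n → q k = ev g (wordOf (t.wd k))) ∧
      ∀ i, i < t.n → ∀ k, k < t.n → q (t.mul i k) = q i * q k := by
  obtain ⟨C, h1, h2, h3⟩ := t.ok
  obtain ⟨q, h0, hq⟩ := h3.regular g (by rw [h1, h2]; exact hinv) hrel
  rw [h1] at hq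
  have h4 : ∀ k, k < t.n → q k = ev g (wordOf (t.wd k)) := fun k hk => by
    have := (runL_spec hq (t.word_lt hk) t.pos).2
    rwa [← mul_eq, t.zero_mul' hk, h0, one_mul] at this
  refine ⟨q, h0, fun i hi j hj => (hq i hi j hj).2, h4, fun i hi k hk => ?_⟩
  rw [mul_eq, (runL_spec hq (t.word_lt hk) hi).2, ← h4 k hk]

theorem mul_lt {i k : Nat} (hi : i < t.n) (hk : k < t.n) : t.mul i k < t.n := by
  rw [mul_eq, ← t.ev_inv_apply (t.word_lt hk) ⟨i, hi⟩]
  exact Fin.is_lt _

theorem exists_inj : ∃ q : Nat → Equiv.Perm (Fin t.n), q 0 = 1 ∧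
    (∀ i, i < t.n → ∀ k, k < t.n → q i = q k → i = k) ∧
      ∀ i, i < t.n → ∀ k, k < t.n → q (t.mul i k) = q i * q k := by
  obtain ⟨q, h0, -, h1, h2⟩ := t.exists_q t.perm (fun j hj => t.perm_invc hj) (t.ev_eq_one t.chkr)
  refine ⟨q, h0, fun i hi k hk h => ?_, h2⟩
  have e : ∀ k, k < t.n → (((q k)⁻¹ ⟨0, t.pos⟩ : Fin t.n) : Nat) = k := fun k hk => by
    rw [h1 k hk, t.ev_inv_apply (t.word_lt hk), ← mul_eq, t.zero_mul' hk]
  rw [← e i hi, h, e k hk]

/-- The group of a table. -/
@[ext] structure Grp where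
  /-- the index -/
  val : Nat
  lt : val < t.n

variable {t}

noncomputable instance instMulGrp : Mul t.Grp := ⟨fun a b => ⟨t.mul a.1 b.1, t.mul_lt a.2 b.2⟩⟩
instance instOneGrp : One t.Grp := ⟨⟨0, t.pos⟩⟩
instance instInvGrp : Inv t.Grp := ⟨fun a => ⟨t.iv a.1, (t.iv_spec a.2).1⟩⟩

instance instDecEqGrp : DecidableEq t.Grp := fun a b =>
  decidable_of_iff (Nat.beq a.1 b.1 = true) (by rw [Nat.beq_eq]; exact Grp.ext_iff.symm)

noncomputable instance instGroupGrp : Group t.Grp := Group.ofRightAxioms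
  (fun a b c => by
    obtain ⟨q, -, h1, h2⟩ := t.exists_inj
    apply Grp.ext
    apply h1 _ (a * b * c).2 _ (a * (b * c)).2
    show q (t.mul (t.mul a.1 b.1) c.1) = q (t.mul a.1 (t.mul b.1 c.1))
    rw [h2 _ (t.mul_lt a.2 b.2) _ c.2, h2 _ a.2 _ b.2, h2 _ a.2 _ (t.mul_lt b.2 c.2),
      h2 _ b.2 _ c.2, mul_assoc])
  (fun a => by
    obtain ⟨q, h0, h1, h2⟩ := t.exists_inj
    apply Grp.ext
    apply h1 _ (a * 1).2 _ a.2
    show q (t.mul a.1 0) = q a.1
    rw [h2 _ a.2 _ t.pos, h0, mul_one])
  (fun a => Grp.ext (t.iv_spec a.2).2)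

/-- Indices. -/
def Grp.equivFin : t.Grp ≃ Fin t.n where
  toFun a := ⟨a.1, a.2⟩
  invFun a := ⟨a.1, a.2⟩

instance instFiniteGrp : Finite t.Grp := Finite.of_equiv _ Grp.equivFin.symm

variable (t)

theorem card_grp : Nat.card t.Grp = t.n := by
  rw [Nat.card_congr Grp.equivFin, Nat.card_eq_fintype_card, Fintype.card_fin]

/-- The element with index `i` (the identity if `i` is too big). -/
def el (i : Nat) : t.Grp := if h : Nat.blt i t.n = true then ⟨i, by simpa using h⟩ else 1

theorem el_val (a : t.Grp) : t.el a.1 = a := by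
  rw [el, dif_pos (by simpa using a.2)]

/-- The generator of column `j`. -/
def gen (j : Nat) : t.Grp := t.el (t.T 0 j)

variable {t}

theorem forall_of_all {p : t.Grp → Prop} [DecidablePred p]
    (h : allFrom (fun i => decide (p (t.el i))) 0 t.n = true) : ∀ a, p a := fun a => by
  have := allFrom_spec h a.1 (by omega) (by simpa using a.2)
  rw [el_val] at this
  exact of_decide_eq_true this

variable (t)

/-- The universal property. -/
theorem exists_lift {G : Type*} [Group G] (g : Nat → G)
    (hinv : ∀ j, j < t.nc → g (t.invc j) = (g j)⁻¹) (hrel : ∀ r ∈ t.rels, ev g r = 1) :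
    ∃ φ : t.Grp →* G, (∀ j, j < t.nc → φ (t.gen j) = g j) ∧
      φ.range = Subgroup.closure {a | ∃ j, j < t.nc ∧ g j = a} := by
  obtain ⟨q, h0, h1, h2, h3⟩ := t.exists_q g hinv hrel
  let φ : t.Grp →* G := MonoidHom.mk' (fun a => q a.1) fun a b => h3 _ a.2 _ b.2
  have hg : ∀ j, j < t.nc → φ (t.gen j) = g j := fun j hj => by
    have e : (t.gen j).1 = t.T 0 j := by
      rw [gen, el, dif_pos (by simpa using t.T_lt t.pos hj)]
    show q (t.gen j).1 = _
    rw [e, h1 0 t.pos j hj, h0, one_mul]
  refine ⟨φ, hg, le_antisymm ?_ ?_⟩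
  · rintro _ ⟨a, rfl⟩
    show q a.1 ∈ _
    rw [h2 _ a.2]
    exact ev_mem g fun j hj => Subgroup.subset_closure ⟨j, t.word_lt a.2 j hj, rfl⟩
  · rw [Subgroup.closure_le]
    rintro _ ⟨j, hj, rfl⟩
    exact ⟨_, hg j hj⟩

theorem val_mul_gen (a : t.Grp) {j : Nat} (hj : j < t.nc) : (a * t.gen j).1 = t.T a.1 j := by
  obtain ⟨q, h0, h1, h2, h3⟩ :=
    t.exists_q t.perm (fun j hj => t.perm_invc hj) (t.ev_eq_one t.chkr)
  have e : ∀ k, k < t.n → (((q k)⁻¹ ⟨0, t.pos⟩ : Fin t.n) : Nat) = k := fun k hk => by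
    rw [h2 k hk, t.ev_inv_apply (t.word_lt hk), ← mul_eq, t.zero_mul' hk]
  have e1 : (t.gen j).1 = t.T 0 j := by
    rw [gen, el, dif_pos (by simpa using t.T_lt t.pos hj)]
  rw [← e _ (a * t.gen j).2, ← e _ (t.T_lt a.2 hj), h1 _ a.2 j hj]
  show (((q (t.mul a.1 (t.gen j).1))⁻¹ ⟨0, t.pos⟩ : Fin t.n) : Nat) = _
  rw [h3 _ a.2 _ (t.gen j).2, e1, h1 0 t.pos j hj, h0, one_mul]

theorem val_mul_ev (a : t.Grp) {w : List Nat} (hw : ∀ j ∈ w, j < t.nc) :
    (a * ev t.gen w).1 = runL t.T w a.1 := by
  induction w generalizing a with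
  | nil => simp [runL_nil]
  | cons j w ih =>
    rw [ev_cons, ← mul_assoc, ih _ (fun k hk => hw k (List.mem_cons_of_mem _ hk)), runL_cons,
      t.val_mul_gen a (hw j List.mem_cons_self)]

theorem eq_ev (a : t.Grp) : a = ev t.gen (wordOf (t.wd a.1)) := by
  apply Grp.ext
  have := t.val_mul_ev 1 (t.word_lt a.2)
  rw [one_mul] at this
  rw [this, ← mul_eq]
  exact (t.zero_mul' a.2).symm

theorem closure_gen : Subgroup.closure {a | ∃ j, j < t.nc ∧ t.gen j = a} = ⊤ := by
  rw [eq_top_iff]
  intro a _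
  rw [t.eq_ev a]
  exact ev_mem _ fun j hj => Subgroup.subset_closure ⟨j, t.word_lt a.2 j hj, rfl⟩

end Tab

/-- The number of `i ∈ [a, a + n)` with `f i`, by bisection (`k` is fuel). -/
noncomputable def cntAux (f : Nat → Bool) (k : Nat) : Nat → Nat → Nat :=
  @Nat.rec (fun _ => Nat → Nat → Nat) (fun _ _ => 0)
    (fun _ ih a n => force a fun a => force n fun n =>
      @Bool.rec (fun _ => Nat)
        (force (Nat.shiftRight n 1) fun m => Nat.add (ih a m) (ih (Nat.add a m) (Nat.sub n m)))
        (@Bool.rec (fun _ => Nat) (@Bool.rec (fun _ => Nat) 0 1 (f a)) 0 (Nat.beq n 0))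
        (Nat.ble n 1)) k

theorem cntAux_succ (f : Nat → Bool) (k a n : Nat) : cntAux f (k + 1) a n =
    force a fun a => force n fun n =>
      @Bool.rec (fun _ => Nat)
        (force (Nat.shiftRight n 1) fun m =>
          Nat.add (cntAux f k a m) (cntAux f k (Nat.add a m) (Nat.sub n m)))
        (@Bool.rec (fun _ => Nat) (@Bool.rec (fun _ => Nat) 0 1 (f a)) 0 (Nat.beq n 0))
        (Nat.ble n 1) := rfl

theorem cntAux_spec (f : Nat → Bool) (k : Nat) : ∀ a n : Nat, n ≤ 2 ^ k →
    cntAux f (k + 1) a n = ((Finset.Ico a (a + n)).filter fun i => f i = true).card := by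
  induction k with
  | zero =>
    intro a n hn
    rw [cntAux_succ, force_eq, force_eq]
    interval_cases n
    · simp; rfl
    · cases hf : f a <;> simp [Finset.filter_singleton, hf] <;> rfl
  | succ k ih =>
    intro a n hn
    rw [cntAux_succ, force_eq, force_eq, force_eq]
    rcases Nat.lt_or_ge 1 n with h | h
    · have hb : Nat.ble n 1 = false := by
        rw [← Bool.not_eq_true, Nat.ble_eq]; omega
      rw [hb]
      have e : Nat.shiftRight n 1 = n / 2 := by
        show n >>> 1 = _
        rw [Nat.shiftRight_eq_div_pow]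
      rw [e]
      show cntAux f (k + 1) a (n / 2) + cntAux f (k + 1) (a + n / 2) (n - n / 2) = _
      rw [ih _ _ (by omega), ih _ _ (by omega), ← Finset.card_union_of_disjoint,
        ← Finset.filter_union, Finset.Ico_union_Ico_eq_Ico (by omega) (by omega)]
      · congr 3; omega
      · exact Finset.disjoint_filter_filter (Finset.Ico_disjoint_Ico_consecutive _ _ _)
    · interval_cases n
      · simp; rfl
      · cases hf : f a <;> simp [Finset.filter_singleton, hf] <;> rfl

/-- The number of `i < n` with `f i`. -/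
noncomputable def cnt (f : Nat → Bool) (n : Nat) : Nat := cntAux f 41 0 n

theorem Tab.card_eq_cnt {t : Tab} (hn : t.n ≤ 2 ^ 40) (p : t.Grp → Prop) [DecidablePred p] :
    Nat.card {a // p a} = cnt (fun i => decide (p (t.el i))) t.n := by
  rw [cnt, cntAux_spec _ 40 0 _ hn, ← Nat.card_eq_finsetCard]
  refine Nat.card_congr ⟨fun a => ⟨a.1.1, ?_⟩, fun i => ⟨t.el i.1, ?_⟩, fun a => ?_, fun i => ?_⟩
  · simp only [Finset.mem_filter, Finset.mem_Ico, Tab.el_val, decide_eq_true_eq]
    exact ⟨⟨by omega, by simpa using a.1.2⟩, a.2⟩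
  · simpa using (Finset.mem_filter.1 i.2).2
  · simp [Tab.el_val]
  · have h := (Finset.mem_Ico.1 (Finset.mem_filter.1 i.2).1).2
    apply Subtype.ext
    show (t.el i.1).1 = i.1
    rw [Tab.el, dif_pos (by simpa using h)]

end CL.TC
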